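import Mathlib

/-!
The numerical contradiction for an embedding with trivial differentials: a polynomial identity between
alternating binomial sums forces the `g`-th difference of a polynomial of degree `g` to vanish.
-/

set_option autoImplicit false

open Polynomial Finset
open scoped fwdDiff

namespace Groth.Agent.AVEmbDim

theorem false_of_relations {g n : ℕ} (hgn : g ≤ n) (hn : n < 2 * g) (c u : ℕ → ℤ)
    (hc : ∀ i, n - g < i → c i = 0) (P : ℚ[X]) (hP : P.natDegree = g) (hP0 : P ≠ 0)
    (hu : ∀ p ≤ n + 1, u p = ∑ i ∈ range (p + 1), (g.choose (p - i) : ℤ) * c i)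
    (h0 : (u 0 : ℚ) = P.eval ((n + 1 : ℕ) : ℚ))
    (hs : ∀ p ≤ n, ((u (p + 1) + u p : ℤ) : ℚ) = ((n + 1).choose (p + 1) : ℚ) * P.eval ((n - p : ℕ) : ℚ)) :
    False := by
  classical
  let cP : ℚ[X] := ∑ i ∈ range (n - g + 1), monomial i (c i : ℚ)
  let H : ℚ[X] := (X + 1) ^ g * cP
  have hcP : ∀ i, cP.coeff i = (c i : ℚ) := by
    intro i
    simp only [cP, finsetSum_coeff, coeff_monomial, sum_ite_eq', mem_range]
    split_ifs with h
    · rfl
    · rw [hc i (by omega), Int.cast_zero]
  have hH : ∀ p ≤ n + 1, H.coeff p = (u p : ℚ) := by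
    intro p hp
    rw [hu p hp, coeff_mul, Nat.sum_antidiagonal_eq_sum_range_succ (fun i j => ((X + 1 : ℚ[X]) ^ g).coeff i * cP.coeff j) p]
    push_cast
    refine (sum_range_reflect _ _).symm.trans (sum_congr rfl fun i hi => ?_)
    have hi' : i ≤ p := Nat.lt_succ_iff.1 (mem_range.1 hi)
    rw [coeff_X_add_one_pow, hcP, show p + 1 - 1 - i = p - i by omega, show p - (p - i) = i by omega]
  let G : ℚ[X] := (X + 1) * H
  have hG : ∀ p ≤ n + 1, G.coeff p = ((n + 1).choose p : ℚ) * P.eval ((n + 1 - p : ℕ) : ℚ) := by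
    intro p hp
    rcases p with _ | p
    · rw [Nat.choose_zero_right, Nat.cast_one, one_mul, Nat.sub_zero, ← h0, ← hH 0 (Nat.zero_le _)]
      simp [G, mul_coeff_zero]
    · rw [Nat.add_sub_add_right, ← hs p (by omega), Int.cast_add, ← hH (p + 1) hp, ← hH p (by omega)]
      simp only [G, add_mul, one_mul, coeff_add, coeff_X_mul]
      ring
  have hdeg : G.natDegree < n + 2 := by
    have h1 : cP.natDegree ≤ n - g := natDegree_sum_le_of_forall_le _ _ fun i hi =>
      (natDegree_monomial_le _).trans (Nat.lt_succ_iff.1 (mem_range.1 hi))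
    have h2 : H.natDegree ≤ g + (n - g) := by
      refine natDegree_mul_le.trans (add_le_add (natDegree_pow_le.trans ?_) h1)
      rw [← C_1, natDegree_X_add_C, mul_one]
    have h3 : G.natDegree ≤ 1 + (g + (n - g)) := by
      refine natDegree_mul_le.trans (add_le_add ?_ h2)
      rw [← C_1, natDegree_X_add_C]
    omega
  set i := n + 1 - g with hi
  have hdvd : (hasseDeriv i G).eval (-1) = 0 := by
    rw [← taylor_coeff]
    have : taylor (-1 : ℚ) G = X ^ (g + 1) * taylor (-1 : ℚ) cP := by
      simp only [G, H, ← mul_assoc, ← pow_succ', taylor_mul, taylor_pow]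
      congr 2
      simp [taylor_apply]
    rw [this, coeff_X_pow_mul', if_neg (by omega)]
  rw [hasseDeriv_apply, Polynomial.sum_over_range' _ (by simp) _ hdeg, eval_finsetSum,
    show n + 2 = i + (g + 1) by omega, sum_range_add, sum_eq_zero (fun p hp => ?_), zero_add] at hdvd
  swap
  · rw [Nat.choose_eq_zero_of_lt (mem_range.1 hp), Nat.cast_zero, zero_mul, map_zero, eval_zero]
  have hlead := congrFun (Polynomial.fwdDiff_iter_degree_eq_factorial P) 0
  rw [hP, fwdDiff_iter_eq_sum_shift] at hlead
  have hsum : ∑ k ∈ range (g + 1), ((-1 : ℤ) ^ (g - k) * g.choose k) • P.eval (0 + k • 1) = 0 := by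
    rw [← sum_range_reflect]
    have hc' : ((n + 1).choose i : ℚ) ≠ 0 := by exact_mod_cast (Nat.choose_pos (by omega)).ne'
    refine mul_left_cancel₀ hc' (Eq.trans ?_ (hdvd.trans (mul_zero _).symm))
    rw [mul_sum]
    refine sum_congr rfl fun l hl => ?_
    have hl' : l ≤ g := Nat.lt_succ_iff.1 (mem_range.1 hl)
    have hch : ((i + l).choose i : ℚ) * ((n + 1).choose (i + l) : ℚ) = ((n + 1).choose i : ℚ) * (g.choose l : ℚ) := by
      rw [mul_comm]
      have := Nat.choose_mul (n := n + 1) (k := i + l) (s := i) (Nat.le_add_right i l)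
      rw [show n + 1 - i = g by omega, Nat.add_sub_cancel_left] at this
      exact_mod_cast this
    rw [eval_monomial, hG (i + l) (by omega), ← mul_assoc, hch, Nat.add_sub_cancel_left,
      show g + 1 - 1 - l = g - l by omega, Nat.choose_symm hl', show g - (g - l) = l by omega,
      show n + 1 - (i + l) = g - l by omega, zsmul_eq_mul, nsmul_eq_mul, mul_one, zero_add]
    push_cast
    ring
  rw [hsum] at hlead
  simp only [Pi.smul_apply, Pi.natCast_apply, smul_eq_mul] at hlead
  exact mul_ne_zero (leadingCoeff_ne_zero.2 hP0) (Nat.cast_ne_zero.2 g.factorial_ne_zero) hlead.symm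

end Groth.Agent.AVEmbDim
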