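import Groth.Agent.AVEmbDim.Alg
import Groth.Agent.HodgeCI.Hirzebruch
import Groth.Agent.HodgeCI.CIMain
import Groth.Agent.AVOmega.Basic
import Groth.Agent.StabLib.Sheaf
import Groth.Agent.ExtFund.SmoothPn
import Groth.Agent.TMul.Pullback
import Groth.Agent.S7795

/-!
A smooth group of dimension `g` embedded in `P^n` has `2g ≤ n`: exterior powers of the Euler and conormal
sequences give relations between Euler characteristics of twists.
-/

set_option autoImplicit false
set_option backward.isDefEq.respectTransparency false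
set_option backward.isDefEq.respectTransparency.types false
set_option linter.style.haveILetI false
set_option linter.unusedSectionVars false
set_option maxHeartbeats 1000000

universe u

open CategoryTheory CategoryTheory.Limits AlgebraicGeometry TopologicalSpace Opposite
open Groth.Agent.SGA6Ext

noncomputable section

namespace Groth.Agent.AVEmbDim

section Euler

variable {k : Type u} [Field k] {X : Scheme.{u}} [X.Over (Spec (CommRingCat.of k))]
  [IsProper (X ↘ Spec (CommRingCat.of k))]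

/-- The Euler characteristic of a free module tensored with a coherent one. -/
theorem euler_free_tensor (C : ℕ) (N : X.Modules) (hN : FlatMod.IsFinLocFree N) :
    Curv2.euler k X (CohB1.tensorMod (FlatMod.freeMod X C) N) =
      (C : ℤ) * Curv2.euler k X N := by
  obtain ⟨B, -, hB⟩ := CurveRR.exists_bound k X
  haveI := CurveRR.isNoetherian_of_proper k X
  have hF : FlatMod.IsFinLocFree (CohB1.tensorMod (FlatMod.freeMod X C) N) := ResDesc.isFinLocFree_tensorMod
    (ResDesc.isFinLocFree_of_frames fun x => ⟨⊤, _, _, trivial, W7Strat.isFrame_freeMod X C⟩) hN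
  rw [CurveRR.euler_eq_sum _ B fun i hi => hB _ (FreeLite.isCoh hF).1 i hi,
    CurveRR.euler_eq_sum _ B fun i hi => hB _ (FreeLite.isCoh hN).1 i hi, Finset.mul_sum]
  refine Finset.sum_congr rfl fun i _ => ?_
  obtain ⟨e⟩ := PnHodge.nonempty_hh_free k C N i
  haveI := CohFinite.finite_proper k X _ (FreeLite.isCoh hN) i
  have h : Module.finrank k (Fin C → Coh.HH X N i) = C * Module.finrank k (Coh.HH X N i) := by
    rw [Module.finrank_pi_fintype, Finset.sum_const, Finset.card_univ, Fintype.card_fin, smul_eq_mul]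
  have he := e.finrank_eq
  rw [h] at he
  simp only [CurveRR.h] at *
  rw [he]
  push_cast
  ring

variable {S : ShortComplex X.Modules}

/-- Exterior powers of an extension by a free module. -/
theorem euler_extPow_free_quot (hS : S.ShortExact) (h₁ : FlatMod.IsFinLocFree S.X₁) (h₂ : FlatMod.IsFinLocFree S.X₂)
    {g : ℕ} (e : S.X₃ ≅ FlatMod.freeMod X g) (G : X.Modules) (hG : FlatMod.IsFinLocFree G) (p : ℕ) :
    Curv2.euler k X (CohB1.tensorMod (extSh S.X₂ p) G) =
      ∑ i ∈ Finset.range (p + 1), (g.choose (p - i) : ℤ) * Curv2.euler k X (CohB1.tensorMod (extSh S.X₁ i) G) := by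
  haveI := CurveRR.isNoetherian_of_proper k X
  have hfree : FlatMod.IsFinLocFree (FlatMod.freeMod X g) :=
    ResDesc.isFinLocFree_of_frames fun x => ⟨⊤, _, _, trivial, W7Strat.isFrame_freeMod X g⟩
  obtain ⟨D⟩ := HodgeCI.exists_sys hS h₁ h₂ (DQCoh.isFinLocFree_of_iso' e.symm hfree)
  have key : ∀ j, j ≤ p + 1 → Curv2.euler k X (CohB1.tensorMod (Q D p j) G) =
      ∑ i ∈ Finset.range j, (g.choose (p - i) : ℤ) * Curv2.euler k X (CohB1.tensorMod (extSh S.X₁ i) G) := by
    intro j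
    induction j with
    | zero =>
      intro _
      rw [Finset.range_zero, Finset.sum_empty]
      exact HodgeCI.euler_of_isZero _ ((PnReg.isZero_tensor_right (isZero_Q_zero D p) G).of_iso (TMul.commIso _ _))
    | succ j ih =>
      intro hj
      have h := HodgeCI.euler_tensor_add (k := k) hG _ (shortExact_gr D p j (by omega))
        (FreeLite.isCoh (ResDesc.isFinLocFree_tensorMod (D.hL' j) (D.hL'' (p - j))))
        (FreeLite.isCoh (clSub_Q D p (j + 1) hj).1) (FreeLite.isCoh (clSub_Q D p j (by omega)).1)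
      dsimp only at h
      rw [h, ih (by omega), Finset.sum_range_succ, add_comm]
      congr 1
      obtain ⟨f⟩ := AVOmega.nonempty_extPow_free e (HodgeCI.sys_right D (p - j))
      obtain ⟨a⟩ := HodgeCI.iso_of_isExtPow (HodgeCI.sys_left D j) (isExtPow_extSh S.X₁ j h₁)
      rw [CurveRR.euler_eq_of_iso (k := k) (PicGrp.tensorModIso (PicGrp.tensorModIso a f ≪≫ TMul.commIso _ _)
        (Iso.refl G) ≪≫ TMul.assocIso _ _ _)]
      exact euler_free_tensor _ _ (ResDesc.isFinLocFree_tensorMod (isFinLocFree_extSh _ _ h₁) hG)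
  haveI := HodgeCI.isIso_prj_top D p
  obtain ⟨a⟩ := HodgeCI.iso_of_isExtPow (HodgeCI.sys_mid D p) (isExtPow_extSh S.X₂ p h₂)
  rw [← key (p + 1) le_rfl]
  exact CurveRR.euler_eq_of_iso (PicGrp.tensorModIso (a.symm ≪≫ asIso (prj D p (p + 1))) (Iso.refl G))

end Euler

variable {k : Type u} [Field k]

theorem nonempty_pow_tw_one {Y : Scheme.{u}} {n : ℕ} (f : Y ⟶ CohB1.ProjSpace n k) :
    ∀ m : ℕ, Nonempty (CohB1.tensorPow (HodgeCI.tw f 1) m ≅ HodgeCI.tw f (m : ℤ))
  | 0 => (HodgeCI.nonempty_tw_zero f).map fun e => eqToIso rfl ≪≫ e.symm ≪≫ eqToIso (by simp)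
  | m + 1 => by
    obtain ⟨e⟩ := nonempty_pow_tw_one f m
    obtain ⟨t⟩ := HodgeCI.nonempty_tw_add f 1 (m : ℤ) ((m + 1 : ℕ) : ℤ) (by push_cast; ring)
    exact ⟨PicGrp.tensorModIso e (Iso.refl _) ≪≫ t⟩

/-- **The bound on embeddings.** -/
theorem two_mul_dim_le (X : Over (Spec (CommRingCat.of k))) [GrpObj X] [IsProper X.hom] [GeometricallyIntegral X.hom]
    (g : ℕ) (hg : topologicalKrullDim ↥X.left = g) (n : ℕ) (f : X.left ⟶ CohB1.ProjSpace n k) [IsClosedImmersion f]
    (hf : f ≫ CohB1.ProjSpace.toSpec n k = X.hom) : 2 * g ≤ n := by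
  classical
  letI : X.left.Over (Spec (CommRingCat.of k)) := ⟨X.hom⟩
  haveI : IsProper (X.left ↘ Spec (CommRingCat.of k)) := ‹IsProper X.hom›
  haveI := CurveRR.isNoetherian_of_proper k X.left
  haveI : LocallyOfFinitePresentation X.hom := inferInstance
  haveI : Flat X.hom := inferInstance
  haveI : Smooth X.hom := Groth.Agent.S7795.result X
  haveI : IsIntegral X.left := GeometricallyIntegral.isIntegral_of_subsingleton X.hom
  haveI := PnHodge.quasiSeparated_toSpec n k
  haveI := ExtFund.smoothOfRelativeDimension_projSpace (k := k) n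
  haveI : SmoothOfRelativeDimension g (f ≫ CohB1.ProjSpace.toSpec n k) := by
    rw [hf]; exact SectRank.smoothOfRelativeDimension_of_dim X.hom hg
  haveI : Smooth (f ≫ CohB1.ProjSpace.toSpec n k) := by rw [hf]; infer_instance
  haveI : QuasiSeparated (f ≫ CohB1.ProjSpace.toSpec n k) := by rw [hf]; infer_instance
  have hgn : g ≤ n := by
    have h1 := (hg.ge.trans f.isClosedEmbedding.topologicalKrullDim_le).trans (S10829.result k n).le
    exact_mod_cast h1
  by_contra hcon
  obtain ⟨T, hT, hT1, hT2, hT3⟩ := ExtFund.exists_conormal_ses (CohB1.ProjSpace.toSpec n k) f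
  have hC : FlatMod.IsFinLocFreeOfRank (n - g) T.X₁ := by
    rw [hT1]; exact ExtFund.isFinLocFreeOfRank_conormal (CohB1.ProjSpace.toSpec n k) f n g
  let A := (Scheme.Modules.pullback f).obj (Omega.sheaf (CohB1.ProjSpace.toSpec n k))
  have hA : FlatMod.IsFinLocFree A := SGA6Ext.isFinLocFree_pullback f PnHodge.isFinLocFree_omega
  obtain ⟨eΩ⟩ := AVOmega.nonempty_omega_free X g hg
  have e₃ : T.X₃ ≅ FlatMod.freeMod X.left g := eqToIso (by rw [hT3, hf]) ≪≫ eΩ
  -- the twists
  let m₀ : ℕ := n + 1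
  have hL : CohB1.IsAmple (HodgeCI.tw f 1) :=
    TMul.isAmple_pullback f f.isEmbedding.isInducing (Intersect.isAmple_twistProj_one n k)
  have hO : Coh.IsCoh (Coh.structureModule X.left) := FreeLite.isCoh (ResDesc.isFinLocFree_structureModule _)
  have hP := StabLib.Sh.isHilbPoly_hp k hL.1 hO
  have hsupp : topologicalKrullDim (CohB1.support (Coh.structureModule X.left)) = (g : WithBot ℕ∞) := by
    rw [Intersect.support_structure, ← hg]
    exact IsHomeomorph.topologicalKrullDim_eq _ (Homeomorph.Set.univ X.left).isHomeomorph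
  obtain ⟨hdeg, hpos⟩ := StabLib.Sh.hp_pos_deg k hL hO hsupp
  let P := StabLib.Sh.hp k (HodgeCI.tw f 1) (Coh.structureModule X.left)
  have hPv : ∀ m : ℕ, (Curv2.euler k X.left (HodgeCI.tw f (m : ℤ)) : ℚ) = P.eval (m : ℚ) := fun m => by
    obtain ⟨e⟩ := nonempty_pow_tw_one f m
    rw [← hP m, ShStab.twist, CurveRR.euler_eq_of_iso (TMul.leftUnitIso _ ≪≫ e)]
  have hG : ∀ i : ℤ, FlatMod.IsFinLocFree (HodgeCI.tw f i) := fun i =>
    finLocFree_of_rank (CurveRR.isFinLocFreeOfRank_one (HodgeCI.isInvertible_tw f i))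
  let G := HodgeCI.tw f (m₀ : ℤ)
  refine false_of_relations hgn (by omega) (fun i => Curv2.euler k X.left (CohB1.tensorMod (extSh T.X₁ i) G))
    (fun p => Curv2.euler k X.left (CohB1.tensorMod (extSh A p) G)) ?_ P hdeg
    (fun h0 => by
      have h1 : (0 : ℚ) < P.leadingCoeff := hpos
      rw [h0, Polynomial.leadingCoeff_zero] at h1
      exact lt_irrefl _ h1) ?_ ?_ ?_
  · intro i hi
    exact HodgeCI.euler_of_isZero _ ((PnReg.isZero_tensor_right
      (HodgeCI.isZero_extPow_of_rank hC hi (isExtPow_extSh _ i (finLocFree_of_rank hC))) G).of_iso (TMul.commIso _ _))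
  · intro p _
    have h := euler_extPow_free_quot (k := k) hT (finLocFree_of_rank hC) (hT2 ▸ hA) e₃ G (hG _) p
    rw [hT2] at h
    exact h
  · obtain ⟨a⟩ := HodgeCI.iso_of_isExtPow (isExtPow_extSh A 0 hA) (isExtPow_zero A)
    show (Curv2.euler k X.left (CohB1.tensorMod (extSh A 0) G) : ℚ) = _
    rw [CurveRR.euler_eq_of_iso (PicGrp.tensorModIso a (Iso.refl G) ≪≫ TMul.leftUnitIso G)]
    exact hPv m₀
  · intro p hp
    obtain ⟨E, q₀, hq₀, ⟨eE⟩, ⟨ε⟩⟩ := HodgeCI.exists_pulled_euler (k := k) (N := n) f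
    obtain ⟨S, hS, ⟨a⟩, ⟨b⟩, ⟨c⟩⟩ := PnHodge.exists_seq_gen ε hq₀ eE
      (CurveRR.isFinLocFreeOfRank_one (HodgeCI.isInvertible_tw f 1)) hA (HodgeCI.isInvertible_tw f 1) p
      (isExtPow_extSh A p hA) (isExtPow_extSh A (p + 1) hA)
    obtain ⟨w₁⟩ := nonempty_pow_tw_one f (p + 1)
    obtain ⟨w₀⟩ := nonempty_pow_tw_one f p
    obtain ⟨t⟩ := HodgeCI.nonempty_tw_add f ((n - p : ℕ) : ℤ) ((p + 1 : ℕ) : ℤ) (m₀ : ℤ) (by omega)
    obtain ⟨s⟩ := HodgeCI.nonempty_tw_add f 1 (p : ℤ) ((p + 1 : ℕ) : ℤ) (by push_cast; ring)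
    let j := HodgeCI.tw f ((n - p : ℕ) : ℤ)
    have h₁ : FlatMod.IsFinLocFree S.X₁ := DQCoh.isFinLocFree_of_iso' (a ≪≫ PicGrp.tensorModIso (Iso.refl _) w₁).symm
      (ResDesc.isFinLocFree_tensorMod (isFinLocFree_extSh _ _ hA) (hG _))
    have h₂ : FlatMod.IsFinLocFree S.X₂ := DQCoh.isFinLocFree_of_iso' b.symm
      (ResDesc.isFinLocFree_of_frames fun x => ⟨⊤, _, _, trivial, W7Strat.isFrame_freeMod _ _⟩)
    let c' : S.X₃ ≅ CohB1.tensorMod (extSh A p) (HodgeCI.tw f ((p + 1 : ℕ) : ℤ)) :=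
      c ≪≫ TMul.assocIso _ _ _ ≪≫ PicGrp.tensorModIso (Iso.refl _) (PicGrp.tensorModIso w₀ (Iso.refl _) ≪≫ s)
    have h₃ : FlatMod.IsFinLocFree S.X₃ :=
      DQCoh.isFinLocFree_of_iso' c'.symm (ResDesc.isFinLocFree_tensorMod (isFinLocFree_extSh _ _ hA) (hG _))
    have h := HodgeCI.euler_tensor_add (k := k) (hG ((n - p : ℕ) : ℤ)) S hS (FreeLite.isCoh h₁) (FreeLite.isCoh h₂)
      (FreeLite.isCoh h₃)
    rw [CurveRR.euler_eq_of_iso (k := k) (PicGrp.tensorModIso b (Iso.refl j)), euler_free_tensor _ _ (hG _),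
      CurveRR.euler_eq_of_iso (k := k) (PicGrp.tensorModIso (a ≪≫ PicGrp.tensorModIso (Iso.refl _) w₁) (Iso.refl j) ≪≫
        TMul.assocIso _ _ _ ≪≫ PicGrp.tensorModIso (Iso.refl _) t),
      CurveRR.euler_eq_of_iso (k := k) (PicGrp.tensorModIso c' (Iso.refl j) ≪≫
        TMul.assocIso _ _ _ ≪≫ PicGrp.tensorModIso (Iso.refl _) t)] at h
    rw [← hPv (n - p), ← h]
    push_cast
    rfl

end Groth.Agent.AVEmbDim
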